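import Cfsg.Agent.H648.Loc.Value_m3
import Cfsg.Agent.KFacts.HS.Sheet2_m3
import Cfsg.Agent.CpAutHNFive.Main
import Cfsg.Agent.FastGrp
import Cfsg.Agent.Prune
set_option linter.all false
prune_inst 0x7f00000000000000000000000000000000000000000000000000000000000000000000000000000000000000000000000000000000000000000000000000000000000000000000000000000000000000003fffffffffffffffffffffffffffbeffbdffffffff
open scoped Cfsg.Agent.FastGrp

-- part: H287/Blk/Tool
section
/-!
# Tools for `Good` (helper287)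

* `Good.of_two_inv` : `P = ⟨y, s⟩` a group of order (at most) four generated by two commuting involutions;
* `unique_five` : a Sylow 5-subgroup of order five is unique in a group of order less than 120 if four divides the order
  of its centralizer;
* `card_mul_le` : an orbit of length at least `n`.
-/

set_option autoImplicit false

open Cfsg

namespace Cfsg.Agent.H287.Blk

universe u

theorem Good.of_two_inv {G : Type u} [Group G] [Finite G] {y s x : G} (hy : y * y = 1) (hs : s * s = 1)
    (hys : y * s = s * y) {r : ℕ} (hr : Odd r) (hx : orderOf x = r) (hxy : x * y = y * x) (hxs : x * s = s * x)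
    (h : ∀ g : G, g * y = y * g → g * s = s * g → orderOf g = r → g ∈ Subgroup.zpowers x) : Good r x := by
  have hz : ∀ a ∈ ({y, s} : Set G), ∀ b ∈ ({y, s} : Set G), a * b = b * a := by
    rintro a (rfl | rfl) b (rfl | rfl)
    · rfl
    · exact hys
    · exact hys.symm
    · rfl
  have hcl : Subgroup.centralizer (Subgroup.closure ({y, s} : Set G) : Set G) =
      Subgroup.centralizer ({y, s} : Set G) := Subgroup.centralizer_closure _
  have hPC : Subgroup.closure ({y, s} : Set G) ≤
      Subgroup.centralizer (Subgroup.closure ({y, s} : Set G) : Set G) := by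
    rw [hcl, Subgroup.closure_le]
    intro c hc
    exact Subgroup.mem_centralizer_iff.2 fun d hd => hz d hd c hc
  have hP : IsPGroup 2 (Subgroup.closure ({y, s} : Set G)) := by
    intro g
    refine ⟨1, ?_⟩
    obtain ⟨g, hg⟩ := g
    rw [Subtype.ext_iff]
    change g ^ 2 ^ 1 = 1
    rw [pow_one]
    refine Subgroup.closure_induction (p := fun g _ => g ^ 2 = 1) ?_ ?_ ?_ ?_ hg
    · rintro z (h | h)
      · rw [h, pow_two]; exact hy
      · rw [h, pow_two]; exact hs
    · exact one_pow 2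
    · intro a b ha hb h1 h2
      have hab : Commute a b := Subgroup.mem_centralizer_iff.1 (hPC hb) a ha
      rw [hab.mul_pow, h1, h2, one_mul]
    · intro a _ h1
      rw [inv_pow, h1, inv_one]
  refine Good.of_cyclic hP hPC hr hx ?_ ?_
  · rw [hcl, Subgroup.mem_centralizer_iff]
    rintro z (h | h)
    · rw [h]; exact hxy.symm
    · rw [h]; exact hxs.symm
  · rw [hcl]
    intro g hg h3
    rw [Subgroup.mem_centralizer_iff] at hg
    exact h g (hg y (Or.inl rfl)).symm (hg s (Or.inr rfl)).symm h3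

theorem unique_five {G : Type*} [Group G] [Finite G] {C : Subgroup G} {x : G} (hxC : x ∈ C) (hx : orderOf x = 5)
    (h4 : 4 ∣ Nat.card ↥(C ⊓ Subgroup.centralizer ({x} : Set G))) (hlt : Nat.card C < 120)
    (h25 : ¬ 25 ∣ Nat.card C) : ∀ g ∈ C, orderOf g = 5 → g ∈ Subgroup.zpowers x := by
  have hp5 : Fact (Nat.Prime 5) := ⟨Nat.prime_five⟩
  set X : C := ⟨x, hxC⟩ with hX
  have hXo : orderOf X = 5 := by rw [← Subgroup.orderOf_coe]; exact hx
  have hcX : Nat.card (Subgroup.zpowers X) = 5 ^ 1 := by rw [Nat.card_zpowers, hXo, pow_one]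
  obtain ⟨S, hS⟩ := (IsPGroup.of_card hcX).exists_le_sylow
  -- the Sylow subgroup is cyclic of order five
  have hSc : Nat.card S = 5 := by
    obtain ⟨n, hn⟩ := IsPGroup.iff_card.1 S.isPGroup'
    have h1 : 5 ∣ Nat.card S := by
      have := Subgroup.card_dvd_of_le hS
      rwa [hcX, pow_one] at this
    have h2 : Nat.card S ∣ Nat.card C := Subgroup.card_subgroup_dvd_card _
    have h3 : n < 2 := by
      by_contra h4
      apply h25
      refine dvd_trans ?_ h2
      rw [hn]
      exact pow_dvd_pow 5 (by omega : 2 ≤ n)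
    interval_cases n
    · rw [hn] at h1; norm_num at h1
    · rw [hn, pow_one]
  have hSe : (S : Subgroup C) = Subgroup.zpowers X := by
    refine (Subgroup.eq_of_le_of_card_ge hS ?_).symm
    rw [hcX]
    exact le_of_eq hSc
  -- the normalizer
  have h20 : 20 ∣ Nat.card (Subgroup.normalizer ((S : Subgroup C) : Set C)) := by
    have h5 : 5 ∣ Nat.card (Subgroup.normalizer ((S : Subgroup C) : Set C)) := by
      have h1 := Subgroup.card_dvd_of_le (Subgroup.le_normalizer (H := (S : Subgroup C)))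
      have h2 : Nat.card (S : Subgroup C) = 5 := hSc
      rwa [h2] at h1
    have h4' : 4 ∣ Nat.card (Subgroup.normalizer ((S : Subgroup C) : Set C)) := by
      refine dvd_trans h4 ?_
      have h1 : (C ⊓ Subgroup.centralizer ({x} : Set G)) ≤
          (Subgroup.normalizer ((S : Subgroup C) : Set C)).map C.subtype := by
        rintro g ⟨hg1, hg2⟩
        refine ⟨⟨g, hg1⟩, ?_, rfl⟩
        have h3 : (⟨g, hg1⟩ : C) * X = X * ⟨g, hg1⟩ :=
          Subtype.ext (Subgroup.mem_centralizer_singleton_iff.1 hg2)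
        rw [hSe]
        refine SetLike.mem_coe.1 (Subgroup.centralizer_le_normalizer _ ?_)
        rw [Subgroup.mem_centralizer_iff]
        rintro _ ⟨k, rfl⟩
        exact ((show Commute (⟨g, hg1⟩ : C) X from h3).zpow_right k).eq.symm
      have h2 := Subgroup.card_dvd_of_le h1
      rwa [Nat.card_congr (Subgroup.equivMapOfInjective _ C.subtype C.subtype_injective).toEquiv.symm] at h2
    exact Nat.Coprime.mul_dvd_of_dvd_of_dvd (m := 4) (n := 5) (by norm_num) h4' h5
  have hn1 : Nat.card (Sylow 5 C) = 1 := by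
    have h1 : Nat.card (Sylow 5 C) = (Subgroup.normalizer ((S : Subgroup C) : Set C)).index := S.card_eq_index_normalizer
    have h2 := Subgroup.card_mul_index (Subgroup.normalizer ((S : Subgroup C) : Set C))
    rw [← h1] at h2
    have h3 := card_sylow_modEq_one 5 C
    obtain ⟨k, hk⟩ := h20
    rw [hk] at h2
    have h4 : Nat.card (Sylow 5 C) < 6 := by
      by_contra h5
      push Not at h5
      have hk0 : 0 < k := by
        rcases Nat.eq_zero_or_pos k with h0 | h0
        · rw [h0, mul_zero] at hk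
          exact absurd hk Nat.card_pos.ne'
        · exact h0
      have : 20 * 1 * 6 ≤ 20 * k * Nat.card (Sylow 5 C) := Nat.mul_le_mul (Nat.mul_le_mul_left 20 hk0) h5
      omega
    have h6 : Nat.card (Sylow 5 C) % 5 = 1 % 5 := h3
    have h7 : 0 < Nat.card (Sylow 5 C) := Nat.card_pos
    omega
  intro g hg hgo
  have hGo : orderOf (⟨g, hg⟩ : C) = 5 := by rw [← Subgroup.orderOf_coe]; exact hgo
  have hcG : Nat.card (Subgroup.zpowers (⟨g, hg⟩ : C)) = 5 ^ 1 := by rw [Nat.card_zpowers, hGo, pow_one]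
  obtain ⟨T, hT⟩ := (IsPGroup.of_card hcG).exists_le_sylow
  have hTS : T = S := by
    have := (Nat.card_eq_one_iff_unique.1 hn1).1
    exact Subsingleton.elim T S
  have h1 : (⟨g, hg⟩ : C) ∈ Subgroup.zpowers X := by
    rw [← hSe, ← hTS]
    exact hT (Subgroup.mem_zpowers _)
  obtain ⟨k, hk⟩ := h1
  exact ⟨k, congrArg Subtype.val hk⟩

/-- an orbit with at least `n` points -/
theorem card_mul_le {G : Type*} [Group G] [Finite G] {C : Subgroup G} {s : G} {n : ℕ} (k : Fin n → G)
    (hk : ∀ i, k i ∈ C) (hd : Function.Injective fun i => k i * s * (k i)⁻¹) :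
    n * Nat.card ↥(C ⊓ Subgroup.centralizer ({s} : Set G)) ≤ Nat.card C := by
  have h1 : Nat.card (Fin n × ↥(C ⊓ Subgroup.centralizer ({s} : Set G))) ≤ Nat.card C := by
    refine Nat.card_le_card_of_injective
      (fun p => (⟨k p.1 * (p.2 : G), mul_mem (hk _) p.2.2.1⟩ : C)) ?_
    rintro ⟨i, a⟩ ⟨j, b⟩ hab
    have hab' : k i * (a : G) = k j * b := congrArg Subtype.val hab
    have ha : (a : G) * s = s * a := Subgroup.mem_centralizer_singleton_iff.1 a.2.2
    have hb : (b : G) * s = s * b := Subgroup.mem_centralizer_singleton_iff.1 b.2.2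
    have h2 : ∀ (c a : G), a * s = s * a → c * s * c⁻¹ = c * a * s * (c * a)⁻¹ := by
      intro c a h
      have : c * a * s * (c * a)⁻¹ = c * (a * s) * a⁻¹ * c⁻¹ := by group
      rw [this, h]
      group
    have hij : i = j := by
      apply hd
      change k i * s * (k i)⁻¹ = k j * s * (k j)⁻¹
      rw [h2 (k i) _ ha, h2 (k j) _ hb, hab']
    subst hij
    rw [Prod.mk.injEq]
    exact ⟨rfl, Subtype.ext (mul_left_cancel hab')⟩
  rwa [Nat.card_prod, Nat.card_eq_fintype_card, Fintype.card_fin] at h1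

end Cfsg.Agent.H287.Blk
end

-- part: H287/Blk/HS
section
/-!
# `HS` : an element of order five whose class function is not nilpotent modulo two (helper287)
-/

set_option autoImplicit false
set_option maxRecDepth 100000

open Cfsg

namespace Cfsg.Agent.H287.Blk.HS

open Cfsg.Agent.HN Cfsg.Agent.HN.Pres Cfsg.Agent.HN.HS100 Cfsg.Agent.HN.P1408 Cfsg.Agent.HN.H0Basic
open Cfsg.Agent.HN.Classes (t1 φ_hw_apply)
open Cfsg.Agent.KFacts.HS
open Cfsg.Agent.KFacts.HS.TwoB (g0 g0w vw g0_sq g0_mem_K)
open Cfsg.Agent.KFacts.HS.DFour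
open Cfsg.Agent.CpAutHNFive.HTab (w2)
open Cfsg.Agent.H652.Four

/-- the conjugating word -/
def cw : List ℕ := [3, 3, 1, 2, 1, 3]

/-- the word of the element of order five -/
def xw : List ℕ := cw ++ (w2 ++ iw cw)

/-- the word of the second involution -/
def sw : List ℕ := [3, 3, 1, 2, 1, 3, 3, 0, 3, 0, 3, 0, 2, 0, 2, 1, 3, 1, 3, 1, 3, 3, 0, 3, 0, 2, 2]

/-- the transversal -/
def kl : List (List ℕ) := [[], [0], [1], [2], [3], [0, 0], [0, 3], [1, 3], [2, 0], [2, 3], [3, 0], [3, 1], [3, 2],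
  [3, 3], [0, 0, 3], [0, 1, 3], [0, 2, 3], [0, 3, 1], [0, 3, 3], [1, 0, 3], [1, 1, 3], [1, 2, 3], [1, 3, 3],
  [2, 0, 3], [2, 1, 3], [2, 2, 3], [2, 3, 1], [2, 3, 3], [3, 0, 0], [3, 2, 0], [0, 0, 3, 1], [0, 2, 3, 1],
  [1, 0, 3, 1], [1, 2, 3, 1], [2, 0, 3, 1], [2, 2, 3, 1]]

/-- the words of the transversal -/
def kw (i : ℕ) : List ℕ := ((kl.getD i []).map vw).flatten

theorem hw_xw : hw xw = hw cw * hw w2 * (hw cw)⁻¹ := by
  rw [xw, hw_append, hw_append, hw_iw, mul_assoc]

theorem xK : hw xw ∈ K := mem_K_of_par (by decide) (by decide)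
theorem sK : hw sw ∈ K := mem_K_of_par (by decide) (by decide)
theorem kK (i : Fin 36) : hw (kw i) ∈ K := mem_K_of_par (by revert i; decide +kernel) (by revert i; decide +kernel)

theorem order_x : orderOf (hw xw) = 5 := by
  rw [hw_xw, ← CpAutHNFive.HFacts.order_w2]
  exact MulEquiv.orderOf_eq (MulAut.conj (hw cw)) (hw w2)

theorem x_g0 : eqt (xw ++ g0w) (g0w ++ xw) = true := by decide +kernel
theorem x_s : eqt (xw ++ sw) (sw ++ xw) = true := by decide +kernel
theorem s_g0 : eqt (sw ++ g0w) (g0w ++ sw) = true := by decide +kernel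
theorem s_s : eqt (sw ++ sw) [] = true := by decide +kernel
theorem k_g0 (i : Fin 36) : eqt (kw i ++ g0w) (g0w ++ kw i) = true := by revert i; decide +kernel

/-- the images of two points under the conjugates of `s` -/
theorem k_inj : ∀ i j : Fin 36,
    t1 (kw i ++ (sw ++ iw (kw i))) 0 = t1 (kw j ++ (sw ++ iw (kw j))) 0 →
    t1 (kw i ++ (sw ++ iw (kw i))) 11 = t1 (kw j ++ (sw ++ iw (kw j))) 11 → i = j := by decide +kernel

section

variable {L : Type*} [Group L] (D : KFacts.HS.Mod L)

theorem pi_comm {u v : List ℕ} (hu : hw u ∈ K) (hv : hw v ∈ K) (h : eqt (u ++ v) (v ++ u) = true) :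
    D.π ⟨hw u, hu⟩ * D.π ⟨hw v, hv⟩ = D.π ⟨hw v, hv⟩ * D.π ⟨hw u, hu⟩ := by
  rw [← map_mul, ← map_mul, pi_eq]
  have h1 := eqt_spec h
  rw [hw_append, hw_append] at h1
  exact h1

noncomputable def x : L := D.π ⟨hw xw, xK⟩
noncomputable def s : L := D.π ⟨hw sw, sK⟩
noncomputable def k (i : Fin 36) : L := D.π ⟨hw (kw i), kK i⟩

theorem xw_comm : x D * wB D = wB D * x D := pi_comm D xK g0_mem_K x_g0
theorem xs_comm : x D * s D = s D * x D := pi_comm D xK sK x_s
theorem sw_comm : s D * wB D = wB D * s D := pi_comm D sK g0_mem_K s_g0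
theorem kw_comm (i : Fin 36) : k D i * wB D = wB D * k D i := pi_comm D (kK i) g0_mem_K (k_g0 i)

theorem s_sq : s D * s D = 1 := by
  rw [s, ← map_mul, ← map_one D.π, pi_eq]
  have h1 := eqt_spec s_s
  rw [hw_append] at h1
  exact h1

theorem orderOf_x : orderOf (x D) = 5 := by
  have : Fact (Nat.Prime 5) := ⟨Nat.prime_five⟩
  have h5 : (hw xw) ^ 5 = 1 := by rw [← order_x, pow_orderOf_eq_one]
  refine orderOf_eq_prime ?_ ?_
  · rw [x, ← map_pow, D.ker]
    exact Or.inl h5
  · intro h
    rcases (D.ker _).1 h with h1 | h1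
    · change hw xw = 1 at h1
      have := order_x
      rw [h1, orderOf_one] at this
      omega
    · change hw xw = τ at h1
      rw [h1, pow_succ, pow_succ, pow_succ, pow_two, τ_mul_τ, one_mul, τ_mul_τ, one_mul] at h5
      exact τ_ne_one h5

theorem k_injective : Function.Injective fun i => k D i * s D * (k D i)⁻¹ := by
  intro i j hij
  change k D i * s D * (k D i)⁻¹ = k D j * s D * (k D j)⁻¹ at hij
  have h1 : ∀ i : Fin 36, k D i * s D * (k D i)⁻¹ =
      D.π ⟨hw (kw i ++ (sw ++ iw (kw i))), by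
        rw [hw_append, hw_append, hw_iw]
        exact mul_mem (kK i) (mul_mem sK (inv_mem (kK i)))⟩ := by
    intro i
    rw [k, s, ← map_inv, ← map_mul, ← map_mul]
    congr 1
    apply Subtype.ext
    change hw (kw i) * hw sw * (hw (kw i))⁻¹ = hw (kw i ++ (sw ++ iw (kw i)))
    rw [hw_append, hw_append, hw_iw, mul_assoc]
  rw [h1, h1, pi_eq] at hij
  have h2 := congrArg (fun p : Equiv.Perm (Fin 100) => ((p 0 : Fin 100) : ℕ)) hij
  have h3 := congrArg (fun p : Equiv.Perm (Fin 100) => ((p 11 : Fin 100) : ℕ)) hij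
  simp only [φ_hw_apply] at h2 h3
  exact k_inj i j h2 h3

theorem ne_of {u v : List ℕ} (hu : hw u ∈ K) (hv : hw v ∈ K) {p : Fin 100} (h : t1 u p ≠ t1 v p) :
    D.π ⟨hw u, hu⟩ ≠ D.π ⟨hw v, hv⟩ := by
  intro h1
  rw [pi_eq] at h1
  have h2 := congrArg (fun q : Equiv.Perm (Fin 100) => ((q p : Fin 100) : ℕ)) h1
  simp only [φ_hw_apply] at h2
  exact h h2

theorem s_ne : s D ≠ 1 := by
  have h1 : (1 : L) = D.π ⟨hw [], mem_K_of_par (by decide) (by decide)⟩ := by
    rw [← map_one D.π]
    congr 1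
  rw [h1]
  exact ne_of D sK _ (p := 0) (by decide +kernel)

theorem s_ne_wB : wB D ≠ s D := ne_of D g0_mem_K sK (p := 0) (by decide +kernel)

theorem card_cent : 36 * Nat.card ↥(Subgroup.centralizer ({wB D} : Set L) ⊓ Subgroup.centralizer ({s D} : Set L)) ≤
    2880 := by
  have := fin D
  exact (card_mul_le (k D) (fun i => Subgroup.mem_centralizer_singleton_iff.2 (kw_comm D i)) (k_injective D)).trans
    (card_C D)

theorem mem_of (g : L) (hg : g * wB D = wB D * g) (hs : g * s D = s D * g) (h5 : orderOf g = 5) :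
    g ∈ Subgroup.zpowers (x D) := by
  have := fin D
  have hle := card_cent D
  have h4 : 4 ∣ Nat.card ↥(Subgroup.centralizer ({wB D} : Set L) ⊓ Subgroup.centralizer ({s D} : Set L) ⊓
      Subgroup.centralizer ({x D} : Set L)) := by
    refine four_dvd _ (x := wB D) (y := s D) ?_ ?_ (wB_sq D) (s_sq D) (sw_comm D).symm (wB_ne D) (s_ne D) (s_ne_wB D)
    · exact ⟨⟨Subgroup.mem_centralizer_singleton_iff.2 rfl, Subgroup.mem_centralizer_singleton_iff.2 (sw_comm D).symm⟩,
        Subgroup.mem_centralizer_singleton_iff.2 (xw_comm D).symm⟩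
    · exact ⟨⟨Subgroup.mem_centralizer_singleton_iff.2 (sw_comm D), Subgroup.mem_centralizer_singleton_iff.2 rfl⟩,
        Subgroup.mem_centralizer_singleton_iff.2 (xs_comm D).symm⟩
  refine unique_five (C := Subgroup.centralizer ({wB D} : Set L) ⊓ Subgroup.centralizer ({s D} : Set L)) ?_
    (orderOf_x D) h4 (by omega) ?_ g ?_ h5
  · exact ⟨Subgroup.mem_centralizer_singleton_iff.2 (xw_comm D), Subgroup.mem_centralizer_singleton_iff.2 (xs_comm D)⟩
  · intro h25
    have h44 := h4.trans (Subgroup.card_dvd_of_le inf_le_left)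
    have hpos : 0 < Nat.card ↥(Subgroup.centralizer ({wB D} : Set L) ⊓ Subgroup.centralizer ({s D} : Set L)) :=
      Nat.card_pos
    omega
  · exact ⟨Subgroup.mem_centralizer_singleton_iff.2 hg, Subgroup.mem_centralizer_singleton_iff.2 hs⟩

theorem good : Good 5 (x D) := by
  have := fin D
  exact Good.of_two_inv (wB_sq D) (s_sq D) (sw_comm D).symm (by decide) (orderOf_x D) (xw_comm D) (xs_comm D) (mem_of D)

theorem le_map : Subgroup.centralizer ({x D} : Set L) ≤
    ((Subgroup.centralizer ({hw xw} : Set H0)).subgroupOf K).map D.π := by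
  intro l hl
  obtain ⟨k, rfl⟩ := D.surj l
  have h1 : D.π k * x D = x D * D.π k := Subgroup.mem_centralizer_singleton_iff.1 hl
  rw [x, ← map_mul, ← map_mul, pi_eq] at h1
  change φ ((k : H0) * hw xw) = φ (hw xw * k) at h1
  refine ⟨k, ?_, rfl⟩
  rw [SetLike.mem_coe, Subgroup.mem_subgroupOf, Subgroup.mem_centralizer_singleton_iff]
  rcases φ_eq_iff.1 h1 with h2 | h2
  · exact h2
  · exfalso
    have h5 : hw xw ^ 5 = 1 := by rw [← order_x, pow_orderOf_eq_one]
    have h4 : (k : H0) * hw xw * (k : H0)⁻¹ = hw xw * τ := by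
      rw [h2, mul_assoc (hw xw) (k : H0) τ, τ_comm (k : H0), ← mul_assoc, mul_inv_cancel_right]
    have h6 : ((k : H0) * hw xw * (k : H0)⁻¹) ^ 5 = 1 := by rw [conj_pow, h5, mul_one, mul_inv_cancel]
    have hcm : Commute (hw xw) τ := τ_comm _
    rw [h4, hcm.mul_pow, h5, one_mul, pow_succ, pow_succ, pow_succ, pow_two, τ_mul_τ, one_mul, τ_mul_τ, one_mul] at h6
    exact τ_ne_one h6

theorem not_dvd_H0 : ¬ 32 ∣ Nat.card ↥(Subgroup.centralizer ({hw xw} : Set H0)) := by
  have h1 : Nat.card ↥(Subgroup.centralizer ({hw xw} : Set H0)) = Nat.card ↥(Subgroup.centralizer ({hw w2} : Set H0)) := by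
    rw [hw_xw]
    exact (Nat.card_congr (CpAutHNFive.TauFive.cequiv (hw cw) (hw w2)).toEquiv).symm
  rw [h1]
  exact CpAutHNFive.HFacts.not_dvd_two

theorem not_dvd : ¬ 32 ∣ Nat.card ↥(Subgroup.centralizer ({x D} : Set L)) := by
  have := fin D
  have := finite_H0
  intro h
  apply not_dvd_H0
  have h1 := Subgroup.card_dvd_of_le (le_map D)
  have h2 := Subgroup.card_map_dvd ((Subgroup.centralizer ({hw xw} : Set H0)).subgroupOf K) D.π
  have h3 : Nat.card ↥((Subgroup.centralizer ({hw xw} : Set H0)).subgroupOf K) ∣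
      Nat.card ↥(Subgroup.centralizer ({hw xw} : Set H0)) := by
    rw [← Subgroup.inf_subgroupOf_right, Nat.card_congr (Subgroup.subgroupOfEquivOfLe inf_le_right).toEquiv]
    exact Subgroup.card_dvd_of_le inf_le_left
  exact h.trans (h1.trans (h2.trans h3))

include D in
theorem index : 4 ∣ (Subgroup.centralizer ({x D} : Set L)).index := by
  have := fin D
  refine four_dvd_index 4 ?_ (not_dvd D)
  rw [D.card]
  norm_num

end

end Cfsg.Agent.H287.Blk.HS

namespace Cfsg.Agent.H287.Blk

open Cfsg.Agent.H652.Four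

universe u

theorem loc_HS {S : Type u} [Group S] [Finite S] (h : Cfsg.Spor.IsoHS S) : Loc S := by
  obtain ⟨D⟩ := KFacts.HS.exists_mod h
  exact (HS.good D).loc (HS.orderOf_x D) (HS.index D)

end Cfsg.Agent.H287.Blk
end

private theorem dce_0a74bd29e40f : _root_.True := by
  try have : _root_.True := by simp only [_root_.Cfsg.Agent.H287.Blk.HS.x.eq_1]
  try have : _root_.True := by simp only [_root_.Cfsg.Agent.H287.Blk.HS.k.eq_1]
  try have : _root_.True := by simp only [_root_.Cfsg.Agent.H287.Blk.HS.xw.eq_1]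
  try have : _root_.True := by simp only [_root_.Cfsg.Agent.H287.Blk.HS.s.eq_1]
  exact _root_.True.intro
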