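import Cfsg.Agent.H648.Loc.Value_m3
import Cfsg.Agent.CpAutCo3.MTw
import Cfsg.Agent.BpSpor.CoThreeCent
import Cfsg.Agent.SporRec.Co3.Model
import Cfsg.Agent.FastGrp
import Cfsg.Agent.Prune
set_option linter.all false

section
prune_inst 0x7f00000000000000000000000000000000000000000000000000000000000000000000000000000000000000000000000000000000000000000000000000000000000000000000000000000000000000003fffffffffffffffffffffffffffbeffbdffffffff

-- part: H287/Blk/MTw
section
set_option linter.all false
open scoped Cfsg.Agent.FastGrp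

/-!
# `M12` : an element of order three whose class function is not nilpotent modulo two (helper287)
-/

set_option autoImplicit false

open Cfsg

namespace Cfsg.Agent.H287.Blk.MTw

open Cfsg.Agent.CoThreeStd.MTwelve
open Cfsg.Agent.H652.Four

/-- the 3-cycle -/
def c3 : Equiv.Perm (Fin 5) := Equiv.swap 0 1 * Equiv.swap 1 2

/-- the element of order three -/
noncomputable def x : H := w c3

theorem perm_fact (σ : Equiv.Perm (Fin 5)) (h3 : σ * σ * σ = 1)
    (hc : σ * Equiv.swap 3 4 = Equiv.swap 3 4 * σ) : σ = 1 ∨ σ = c3 ∨ σ = c3 * c3 := by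
  revert σ; unfold c3; decide +kernel

theorem c3_ne : c3 ≠ 1 := by unfold c3; decide +kernel
theorem c3_cube : c3 ^ 3 = 1 := by unfold c3; decide +kernel
theorem c3_comm : c3 * Equiv.swap 3 4 = Equiv.swap 3 4 * c3 := by unfold c3; decide +kernel

theorem x_ne : x ≠ 1 := by
  intro h
  exact c3_ne (w_injective (by rw [map_one]; exact h))

theorem x_cube : x ^ 3 = 1 := by
  unfold x
  rw [← map_pow, c3_cube, map_one]

theorem orderOf_x : orderOf x = 3 := orderOf_eq_prime x_cube x_ne

theorem y_sq' : y ^ 2 = 1 := by rw [pow_two]; exact y_sq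

theorem s_sq : s * s = 1 := by
  rw [← w_s, ← map_mul, Equiv.swap_mul_self, map_one]

theorem ys_comm : y * s = s * y := by
  rw [← w_s]; exact y_comm _

/-- elements of order three commuting with `y` and `s` -/
theorem mem_of (g : H) (hy : g * y = y * g) (hs : g * s = s * g) (h3 : orderOf g = 3) :
    g ∈ Subgroup.zpowers x := by
  have h3' : g ^ 3 = 1 := by rw [← h3]; exact pow_orderOf_eq_one g
  have hg : ∃ σ, g = w σ := by
    obtain ⟨σ, h | h⟩ := cent_y g hy
    · exact ⟨σ, h⟩
    · exfalso
      rw [h, (show Commute y (w σ) from y_comm σ).mul_pow, ← map_pow] at h3'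
      have h4 : y ^ 3 = y := by rw [pow_succ, y_sq', one_mul]
      rw [h4] at h3'
      refine y_ne_w ((σ ^ 3)⁻¹) ?_
      rw [map_inv]
      exact mul_eq_one_iff_eq_inv.1 h3'
  obtain ⟨σ, rfl⟩ := hg
  have h4 : σ * σ * σ = 1 := w_injective (by rw [map_mul, map_mul, map_one, ← h3', pow_succ, pow_two])
  have h5 : σ * Equiv.swap 3 4 = Equiv.swap 3 4 * σ := w_injective (by rw [map_mul, map_mul, w_s]; exact hs)
  rcases perm_fact σ h4 h5 with h | h | h
  · exfalso
    rw [h, map_one, orderOf_one] at h3
    omega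
  · rw [h]; exact Subgroup.mem_zpowers x
  · rw [h, map_mul]; exact mul_mem (Subgroup.mem_zpowers x) (Subgroup.mem_zpowers x)

theorem closure_le {K : Subgroup H} (hy : y ∈ K) (hs : s ∈ K) : Subgroup.closure ({y, s} : Set H) ≤ K := by
  rw [Subgroup.closure_le]
  rintro z (h | h)
  · rw [h]; exact hy
  · rw [h]; exact hs

theorem good : Blk.Good 3 x := by
  have hP : IsPGroup 2 (Subgroup.closure ({y, s} : Set H)) := by
    intro g
    refine ⟨1, ?_⟩
    obtain ⟨g, hg⟩ := g
    rw [Subtype.ext_iff]
    change g ^ 2 ^ 1 = 1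
    rw [pow_one]
    have hz : ∀ a ∈ ({y, s} : Set H), ∀ b ∈ ({y, s} : Set H), a * b = b * a := by
      rintro a (rfl | rfl) b (rfl | rfl)
      · rfl
      · exact ys_comm
      · exact ys_comm.symm
      · rfl
    refine Subgroup.closure_induction (p := fun g _ => g ^ 2 = 1) ?_ ?_ ?_ ?_ hg
    · rintro z (h | h)
      · rw [h]; exact y_sq'
      · rw [h, pow_two]; exact s_sq
    · exact one_pow 2
    · intro a b ha hb h1 h2
      have hab : Commute a b := by
        have hcl : Subgroup.closure ({y, s} : Set H) ≤ Subgroup.centralizer (Subgroup.closure ({y, s} : Set H) : Set H) := by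
          rw [Subgroup.closure_le]
          intro c hc
          rw [Subgroup.centralizer_closure]
          exact Subgroup.mem_centralizer_iff.2 fun d hd => hz d hd c hc
        exact (Subgroup.mem_centralizer_iff.1 (hcl hb) a ha)
      rw [hab.mul_pow, h1, h2, one_mul]
    · intro a _ h1
      rw [inv_pow, h1, inv_one]
  have hcl : Subgroup.centralizer (Subgroup.closure ({y, s} : Set H) : Set H) =
      Subgroup.centralizer ({y, s} : Set H) := Subgroup.centralizer_closure _
  refine Blk.Good.of_cyclic hP ?_ (by decide) orderOf_x ?_ ?_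
  · rw [hcl]
    refine closure_le ?_ ?_
    · rw [Subgroup.mem_centralizer_iff]
      rintro z (h | h)
      · rw [h]
      · rw [h]; exact ys_comm.symm
    · rw [Subgroup.mem_centralizer_iff]
      rintro z (h | h)
      · rw [h]; exact ys_comm
      · rw [h]
  · rw [hcl, Subgroup.mem_centralizer_iff]
    rintro z (h | h)
    · rw [h]; exact y_comm _
    · rw [h, ← w_s]
      unfold x
      rw [← map_mul, ← map_mul, c3_comm]
  · rw [hcl]
    intro g hg h3
    rw [Subgroup.mem_centralizer_iff] at hg
    exact mem_of g (hg y (Or.inl rfl)).symm (hg s (Or.inr rfl)).symm h3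

theorem index : 4 ∣ (Subgroup.centralizer ({x} : Set H)).index := by
  refine Blk.four_dvd_index 4 ?_ (CpAutCo3.MTw.not_dvd x_ne x_cube)
  rw [card_H]
  norm_num

end Cfsg.Agent.H287.Blk.MTw

namespace Cfsg.Agent.H287.Blk

open Cfsg.Agent.H652.Four

universe u

theorem loc_M12 {S : Type u} [Group S] [Finite S] (h : Cfsg.Spor.IsoM12 S) : Loc S := by
  obtain ⟨e⟩ := h
  exact MTw.good.loc_of_equiv e MTw.orderOf_x MTw.index

end Cfsg.Agent.H287.Blk
end

-- part: H287/Blk/CoThree
section
set_option linter.all false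
open scoped Cfsg.Agent.FastGrp

/-!
# `Co3` : an element of order three whose class function is not nilpotent modulo two (helper287)
-/

set_option autoImplicit false

open Cfsg

namespace Cfsg.Agent.H287.Blk.CoThree

open Cfsg.Agent.SigZero.CoThreeB
open Cfsg.Agent.CpAutCo3.MTw (ker_cases wC wC_sq ee)
open Cfsg.Agent.SporRec.Co3.Chain (G3)
open Cfsg.Agent.H652.Four

theorem exists_x : ∃ b : C, b ^ 3 = 1 ∧ proj b = MTw.x := by
  obtain ⟨g, hg⟩ := proj_surj MTw.x
  have h1 : proj (g ^ 3) = 1 := by rw [map_pow, hg, MTw.x_cube]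
  have h2 : g ^ 3 * g ^ 3 = 1 := by
    rcases ker_cases h1 with h | h
    · rw [h, one_mul]
    · rw [h, wC_sq]
  refine ⟨g ^ 4, ?_, ?_⟩
  · calc (g ^ 4) ^ 3 = (g ^ 3 * g ^ 3) * (g ^ 3 * g ^ 3) := by group
      _ = 1 := by rw [h2, one_mul]
  · rw [map_pow, hg, pow_succ, MTw.x_cube, one_mul]

noncomputable def x : C := exists_x.choose
theorem x_cube : x ^ 3 = 1 := exists_x.choose_spec.1
theorem proj_x : proj x = MTw.x := exists_x.choose_spec.2

theorem x_ne : x ≠ 1 := by
  intro h
  apply MTw.x_ne
  rw [← proj_x, h, map_one]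

theorem orderOf_wK : orderOf wK = 2 := orderOf_eq_prime (by rw [pow_two]; exact wK_sq) wK_ne

instance finG : Finite G3 := Nat.finite_of_card_ne_zero (by rw [SporRec.Co3.Chain.isCo3_G3.2]; norm_num)

instance finK : Finite K := Finite.of_equiv _ ee.symm.toEquiv

theorem goodK : Blk.Good 3 (x : K) := by
  refine Blk.Good.of_cent orderOf_wK proj proj_surj (fun c hc => ker_proj hc) (by decide) ?_
  rw [proj_x]
  exact MTw.good

theorem good : Blk.Good 3 (ee (x : K)) := by
  refine Blk.Good.congr ee.symm ?_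
  rw [ee.symm_apply_apply]
  exact goodK

theorem orderOf_x : orderOf (ee (x : K)) = 3 := by
  rw [MulEquiv.orderOf_eq, Subgroup.orderOf_coe]
  exact orderOf_eq_prime x_cube x_ne

theorem index : 4 ∣ (Subgroup.centralizer ({ee (x : K)} : Set G3)).index := by
  refine Blk.four_dvd_index 5 ?_ (BpSpor.CoThree.not_sixty_four orderOf_x)
  rw [SporRec.Co3.Chain.isCo3_G3.2]
  norm_num

end Cfsg.Agent.H287.Blk.CoThree

namespace Cfsg.Agent.H287.Blk

open Cfsg.Agent.H652.Four

universe u

theorem loc_Co3 {S : Type u} [Group S] [Finite S] (h : Cfsg.Spor.IsoCo3 S) : Loc S := by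
  obtain ⟨e⟩ := h
  exact CoThree.good.loc_of_equiv (e.trans SporRec.Co3.Model.equivCo3.symm) CoThree.orderOf_x CoThree.index

end Cfsg.Agent.H287.Blk
end
end
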